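import Mathlib

open CategoryTheory

universe u

namespace ExtNzLib

variable {R : Type u} [CommRing R]

theorem ext_one_nontrivial_of_hom (I J : Type u) [AddCommGroup I] [Module R I]
    [AddCommGroup J] [Module R J] (x : R) (hxI : ∀ i : I, x • i = 0)
    (hxJ : ∀ j : J, x • j = 0 → j = 0)
    (φ : I →ₗ[R] J ⧸ LinearMap.range (x • LinearMap.id : J →ₗ[R] J)) (hφ : φ ≠ 0) :
    Nontrivial (Abelian.Ext (ModuleCat.of R I) (ModuleCat.of R J) 1) := by
  let μ : J →ₗ[R] J := x • LinearMap.id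
  let S : ShortComplex (ModuleCat.{u} R) := ShortComplex.moduleCatMk μ (LinearMap.range μ).mkQ
    (LinearMap.range_mkQ_comp μ)
  have hS : S.ShortExact :=
    { exact := (ShortComplex.moduleCat_exact_iff_range_eq_ker S).2 (Submodule.ker_mkQ _).symm
      mono_f := (ModuleCat.mono_iff_injective _).2
        ((injective_iff_map_eq_zero μ).2 fun j hj => hxJ j hj)
      epi_g := (ModuleCat.epi_iff_surjective _).2 (Submodule.mkQ_surjective _) }
  let e : Abelian.Ext (ModuleCat.of R I) S.X₃ 0 := Abelian.Ext.mk₀ (ModuleCat.ofHom φ)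
  refine ⟨⟨e.comp hS.extClass (zero_add 1), 0, fun h => ?_⟩⟩
  obtain ⟨g, hg⟩ := Abelian.Ext.covariant_sequence_exact₃ _ hS e (zero_add 1) h
  obtain ⟨g, rfl⟩ := (Abelian.Ext.mk₀_bijective _ _).2 g
  rw [Abelian.Ext.mk₀_comp_mk₀] at hg
  have hg' : g ≫ S.g = ModuleCat.ofHom φ := (Abelian.Ext.mk₀_bijective _ _).1 hg
  apply hφ
  refine LinearMap.ext fun i => ?_
  have h0 : g.hom i = 0 := hxJ _ (by
    have := g.hom.map_smul x i
    rw [hxI i, map_zero] at this
    exact this.symm)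
  have := ConcreteCategory.congr_hom hg' i
  refine this.symm.trans ?_
  show S.g.hom (g.hom i) = 0
  rw [h0, map_zero]

variable [IsLocalRing R]

/-- Depth zero target and nonzero finite source: there is a nonzero map. -/
theorem exists_hom_ne_zero (I T : Type u) [AddCommGroup I] [Module R I] [Module.Finite R I]
    [Nontrivial I] [AddCommGroup T] [Module R T] (t : T) (ht : t ≠ 0)
    (htm : ∀ r ∈ IsLocalRing.maximalIdeal R, r • t = 0) :
    ∃ φ : I →ₗ[R] T, φ ≠ 0 := by
  let 𝔪 := IsLocalRing.maximalIdeal R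
  have hne : (𝔪 • ⊤ : Submodule R I) < ⊤ := lt_top_iff_ne_top.2 fun h =>
    top_ne_bot (α := Submodule R I) (Submodule.eq_bot_of_eq_ideal_smul_of_le_jacobson_annihilator
      Module.Finite.fg_top h.symm (IsLocalRing.maximalIdeal_le_jacobson _))
  obtain ⟨i, hi⟩ : ∃ i : I, i ∉ (𝔪 • ⊤ : Submodule R I) := by
    simpa [Submodule.eq_top_iff'] using hne.ne
  let K := IsLocalRing.ResidueField R
  let V := I ⧸ (𝔪 • ⊤ : Submodule R I)
  letI : Field (R ⧸ 𝔪) := Ideal.Quotient.field 𝔪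
  letI : Module (R ⧸ 𝔪) V :=
    Module.IsTorsionBySet.module (Module.isTorsionBySet_quotient_ideal_smul I 𝔪)
  have hv : (Submodule.Quotient.mk i : V) ≠ 0 := by
    simpa [Submodule.Quotient.mk_eq_zero] using hi
  obtain ⟨ℓ, hℓ⟩ : ∃ ℓ : Module.Dual (R ⧸ 𝔪) V, ℓ (Submodule.Quotient.mk i) ≠ 0 := by
    by_contra! hall
    exact hv ((Module.forall_dual_apply_eq_zero_iff (R ⧸ 𝔪) _).1 hall)
  let c : (R ⧸ 𝔪) →ₗ[R] T :=
    Submodule.liftQ 𝔪 (LinearMap.toSpanSingleton R T t) fun r hr => htm r hr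
  refine ⟨c ∘ₗ (ℓ.restrictScalars R) ∘ₗ Submodule.mkQ _, fun h => ?_⟩
  have h0 : c (ℓ (Submodule.Quotient.mk i)) = 0 := LinearMap.congr_fun h i
  obtain ⟨r, hr⟩ := Submodule.Quotient.mk_surjective 𝔪 (ℓ (Submodule.Quotient.mk i))
  rw [← hr] at h0
  have hr' : r ∉ 𝔪 := fun hmem => hℓ (by rw [← hr]; exact (Submodule.Quotient.mk_eq_zero 𝔪).2 hmem)
  have hu : IsUnit r := IsLocalRing.notMem_maximalIdeal.1 hr'
  obtain ⟨u, rfl⟩ := hu
  apply ht
  have : (u : R) • t = 0 := h0
  simpa [← mul_smul] using congrArg ((↑u⁻¹ : R) • ·) this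

/-- The main statement. -/
theorem ext_one_nontrivial [IsNoetherianRing R] (P Q : Ideal R)
    (hPQ : ∃ n : ℕ, IsLocalRing.maximalIdeal R ^ n ≤ P ⊔ Q)
    [IsReduced (R ⧸ Q)] (hPne : P ≠ ⊤) (hQdim : ringKrullDim (R ⧸ Q) = 1)
    (I J : Type u) [AddCommGroup I] [Module R I] [Module.Finite R I] [Nontrivial I]
    [AddCommGroup J] [Module R J] [Module.Finite R J] [Nontrivial J]
    (hPI : ∀ p ∈ P, ∀ x : I, p • x = 0) (hQJ : ∀ q ∈ Q, ∀ y : J, q • y = 0)
    (hJtf : ∀ r : R, Ideal.Quotient.mk Q r ∈ nonZeroDivisors (R ⧸ Q) → ∀ y : J, r • y = 0 → y = 0) :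
    Nontrivial (Abelian.Ext (ModuleCat.of R I) (ModuleCat.of R J) 1) := by
  let 𝔪 := IsLocalRing.maximalIdeal R
  have hQne : Q ≠ ⊤ := fun h => by
    have : Subsingleton (R ⧸ Q) := Ideal.Quotient.subsingleton_iff.2 h
    rw [ringKrullDim_eq_bot_of_subsingleton] at hQdim
    exact absurd hQdim (by simp)
  -- a prime containing `P ⊔ Q` is maximal
  have hmax : ∀ p : Ideal R, p.IsPrime → P ⊔ Q ≤ p → p = 𝔪 := fun p hp hle => by
    obtain ⟨n, hn⟩ := hPQ
    exact le_antisymm (IsLocalRing.le_maximalIdeal hp.ne_top)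
      (hp.le_of_pow_le (hn.trans hle))
  -- the minimal primes over `Q` are not maximal
  have hmin : ∀ q ∈ Q.minimalPrimes, q ≠ 𝔪 := fun q hq hqm => by
    subst hqm
    have : Ring.KrullDimLE 0 (R ⧸ Q) := by
      rw [Ring.krullDimLE_zero_iff]
      intro p hp
      have := Ideal.Quotient.nontrivial_iff.2 hQne
      haveI : IsLocalRing (R ⧸ Q) :=
        IsLocalRing.of_surjective' (Ideal.Quotient.mk Q) Ideal.Quotient.mk_surjective
      have hc : (p.comap (Ideal.Quotient.mk Q)).IsPrime := Ideal.comap_isPrime _ _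
      have h1 : Q ≤ p.comap (Ideal.Quotient.mk Q) := fun r hr => by
        simp [Ideal.Quotient.eq_zero_iff_mem.2 hr]
      have h2 : p.comap (Ideal.Quotient.mk Q) = 𝔪 :=
        le_antisymm (IsLocalRing.le_maximalIdeal hc.ne_top)
          (hq.2 ⟨hc, h1⟩ (IsLocalRing.le_maximalIdeal hc.ne_top))
      rw [← Ideal.map_comap_of_surjective _ Ideal.Quotient.mk_surjective p, h2]
      show (Ideal.map (Ideal.Quotient.mk Q) (IsLocalRing.maximalIdeal R)).IsMaximal
      exact (Ideal.map_eq_top_or_isMaximal_of_surjective _ Ideal.Quotient.mk_surjective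
        (IsLocalRing.maximalIdeal.isMaximal R)).resolve_left fun h => by
          apply hp.ne_top
          rw [← Ideal.map_comap_of_surjective _ Ideal.Quotient.mk_surjective p, h2]
          exact h
    have h0 := Ring.krullDimLE_iff.1 this
    rw [hQdim] at h0
    exact absurd h0 (by norm_num)
  -- choose `x ∈ P` avoiding all minimal primes over `Q`
  have hav : ¬ (P : Set R) ⊆ ⋃ q ∈ Q.minimalPrimes, (q : Set R) := by
    intro h
    have hf := Q.finite_minimalPrimes_of_isNoetherianRing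
    obtain ⟨q, hq, hle⟩ := (Ideal.subset_union_prime (s := hf.toFinset) ⊥ ⊥
      (fun q hq _ _ => (hf.mem_toFinset.1 hq).1.1)).1 (by simpa using h)
    have hq' : q ∈ Q.minimalPrimes := hf.mem_toFinset.1 hq
    exact hmin q hq' (hmax q hq'.1.1 (sup_le hle hq'.1.2))
  obtain ⟨x, hxP, hx⟩ := Set.not_subset.1 hav
  simp only [Set.mem_iUnion, SetLike.mem_coe, not_exists] at hx
  -- `x` is regular on `R ⧸ Q`
  have hxreg : Ideal.Quotient.mk Q x ∈ nonZeroDivisors (R ⧸ Q) := by
    rw [mem_nonZeroDivisors_iff_right]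
    intro z hz
    obtain ⟨z, rfl⟩ := Ideal.Quotient.mk_surjective z
    rw [← map_mul, Ideal.Quotient.eq_zero_iff_mem] at hz
    rw [Ideal.Quotient.eq_zero_iff_mem]
    have hrad : Q.IsRadical := (Ideal.isRadical_iff_quotient_reduced Q).2 ‹_›
    rw [← hrad.radical, ← Ideal.sInf_minimalPrimes, Submodule.mem_sInf]
    intro q hq
    exact (hq.1.1.mem_or_mem (hq.1.2 hz)).resolve_right (hx q hq)
  have hxJ := hJtf x hxreg
  have hxm : x ∈ 𝔪 := IsLocalRing.le_maximalIdeal hPne hxP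
  let T := J ⧸ LinearMap.range (x • LinearMap.id : J →ₗ[R] J)
  have hT : Nontrivial T := by
    rw [Submodule.Quotient.nontrivial_iff]
    intro h
    exact top_ne_bot (α := Submodule R J) (Submodule.eq_bot_of_le_smul_of_le_jacobson_bot
      (Ideal.span {x}) ⊤ Module.Finite.fg_top
      (by
        intro v _
        obtain ⟨j, rfl⟩ : v ∈ LinearMap.range (x • LinearMap.id : J →ₗ[R] J) := h ▸ trivial
        exact Submodule.smul_mem_smul (Ideal.mem_span_singleton_self x) Submodule.mem_top)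
      (by
        rw [Ideal.span_le, Set.singleton_subset_iff]
        exact IsLocalRing.maximalIdeal_le_jacobson _ hxm))
  obtain ⟨p, hp⟩ := associatedPrimes.nonempty R T
  obtain ⟨hpp, t, ht⟩ := (isAssociatedPrime_iff_exists_injective_linearMap p T).1
    hp
  have hann : ∀ r, (∀ z : T, r • z = 0) → r ∈ p := fun r hr => by
    have : t (r • (1 : R ⧸ p)) = 0 := by rw [map_smul, hr]
    have := (map_eq_zero_iff t ht).1 this
    rwa [← map_one (Ideal.Quotient.mk p), ← Ideal.Quotient.mk_eq_mk,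
      ← Submodule.Quotient.mk_smul, smul_eq_mul, mul_one, Submodule.Quotient.mk_eq_zero] at this
  have hQp : Q ≤ p := fun q hq => hann q fun z => by
    obtain ⟨j, rfl⟩ := Submodule.Quotient.mk_surjective _ z
    rw [← Submodule.Quotient.mk_smul, hQJ q hq]; rfl
  have hxp : x ∈ p := hann x fun z => by
    obtain ⟨j, rfl⟩ := Submodule.Quotient.mk_surjective _ z
    rw [← Submodule.Quotient.mk_smul, Submodule.Quotient.mk_eq_zero]
    exact ⟨j, rfl⟩
  have hpm : p = 𝔪 := by
    obtain ⟨q, hq, hqp⟩ := Ideal.exists_minimalPrimes_le hQp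
    have hlt : q < p := lt_of_le_of_ne hqp fun h => hx q hq (h ▸ hxp)
    refine le_antisymm (IsLocalRing.le_maximalIdeal hpp.ne_top) ?_
    by_contra hne
    have hlt2 : p < 𝔪 := lt_of_le_of_ne (IsLocalRing.le_maximalIdeal hpp.ne_top)
      fun h => hne h.ge
    have : q.IsPrime := hq.1.1
    let π := Ideal.Quotient.mk Q
    have hp' : ∀ r : Ideal R, r.IsPrime → Q ≤ r → (r.map π).IsPrime := fun r hr hle =>
      Ideal.map_isPrime_of_surjective Ideal.Quotient.mk_surjective (by rwa [Ideal.mk_ker])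
    have hlt' : ∀ r s : Ideal R, Q ≤ r → r < s → r.map π < s.map π := fun r s hr hrs => by
      refine lt_of_le_of_ne (Ideal.map_mono hrs.le) fun h => hrs.ne ?_
      have := congrArg (Ideal.comap π) h
      rwa [Ideal.comap_map_mk hr, Ideal.comap_map_mk (hr.trans hrs.le)] at this
    let a0 : PrimeSpectrum (R ⧸ Q) := ⟨q.map π, hp' q hq.1.1 hq.1.2⟩
    let a1 : PrimeSpectrum (R ⧸ Q) := ⟨p.map π, hp' p hpp hQp⟩
    let a2 : PrimeSpectrum (R ⧸ Q) := ⟨𝔪.map π, hp' 𝔪
      (IsLocalRing.maximalIdeal.isMaximal R).isPrime (hQp.trans hlt2.le)⟩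
    let s : LTSeries (PrimeSpectrum (R ⧸ Q)) :=
      { length := 2
        toFun := ![a0, a1, a2]
        step := fun i => by
          fin_cases i
          · exact hlt' q p hq.1.2 hlt
          · exact hlt' p 𝔪 hQp hlt2 }
    have h2 := Order.LTSeries.length_le_krullDim s
    rw [ringKrullDim] at hQdim
    rw [hQdim] at h2
    exact absurd h2 (by norm_num)
  have ht0 : t 1 ≠ 0 := fun h => by
    have h1 : (1 : R ⧸ p) = 0 := (map_eq_zero_iff t ht).1 h
    exact hpp.ne_top (Ideal.Quotient.zero_eq_one_iff.1 h1.symm)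
  obtain ⟨φ, hφ⟩ := exists_hom_ne_zero I T (t 1) ht0 (fun r hr => by
    rw [← map_smul]
    have : r • (1 : R ⧸ p) = 0 := by
      rw [← map_one (Ideal.Quotient.mk p), ← Ideal.Quotient.mk_eq_mk, ← Submodule.Quotient.mk_smul,
        smul_eq_mul, mul_one, Submodule.Quotient.mk_eq_zero, hpm]
      exact hr
    rw [this, map_zero])
  exact ext_one_nontrivial_of_hom I J x (hPI x hxP) hxJ φ hφ

end ExtNzLib
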